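import Groth.Agent.SteinEtLib.Pi1
import Groth.Agent.PropPi1.AlgClosedBC
import Groth.Agent.FEtLib.Split
import Groth.Agent.FEtLib.HomExist
import Groth.Agent.FEtLib.HomBase
import Groth.Agent.GeomIrred.Scheme
import Groth.Agent.AVLib.IdSub
import Groth.Agent.ArtGrpLib.Component
import Groth.Agent.DVRCrit.Local
import Groth.Agent.S0238

/-!
# Covers of a product with a proper connected factor: basic facts
-/

set_option autoImplicit false
set_option backward.isDefEq.respectTransparency false
set_option linter.style.haveILetI false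
set_option linter.unusedSectionVars false
set_option maxHeartbeats 800000

universe u

open CategoryTheory CategoryTheory.Limits AlgebraicGeometry TopologicalSpace MorphismProperty

noncomputable section

namespace Groth.Agent.KunnethPi1Lib

open Groth.Agent.FEtLib

section Product

variable {k : Type u} [Field k] [IsAlgClosed k] {F B P : Scheme.{u}} {pF : F ⟶ Spec (CommRingCat.of k)}
  {pB : B ⟶ Spec (CommRingCat.of k)} {fF : P ⟶ F} {fB : P ⟶ B}

theorem geometricallyReduced_snd (h : IsPullback fF fB pF pB) [IsReduced F] : GeometricallyReduced fB :=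
  MorphismProperty.of_isPullback h (AVLib.geometricallyReduced_of_perfect pF)

theorem geometricallyConnected_snd (h : IsPullback fF fB pF pB) [ConnectedSpace F] : GeometricallyConnected fB :=
  MorphismProperty.of_isPullback h (GeomIrred.geometricallyConnected_of_connectedSpace pF)

theorem isProper_snd (h : IsPullback fF fB pF pB) [IsProper pF] : IsProper fB :=
  MorphismProperty.of_isPullback h ‹_›

theorem surjective_snd (h : IsPullback fF fB pF pB) [Nonempty F] : Surjective fB :=
  MorphismProperty.of_isPullback h (P := @Surjective)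
    ⟨fun _ => ⟨Classical.arbitrary F, @Subsingleton.elim (PrimeSpectrum k) _ _ _⟩⟩

theorem flat_snd (h : IsPullback fF fB pF pB) : Flat fB := MorphismProperty.of_isPullback h inferInstance

theorem lfp_snd (h : IsPullback fF fB pF pB) [IsProper pF] : LocallyOfFinitePresentation fB :=
  MorphismProperty.of_isPullback h inferInstance

theorem connectedSpace_product (h : IsPullback fF fB pF pB) [IsProper pF] [ConnectedSpace F] [ConnectedSpace B] :
    ConnectedSpace P := by
  haveI := isProper_snd h
  haveI := surjective_snd h
  haveI := geometricallyConnected_snd h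
  exact (SteinConn.connectedSpace_iff_of_proper fB).2 inferInstance

/-- Exactness in the middle for a product with a proper reduced connected factor. -/
theorem essImage_of_fibre_section (h : IsPullback fF fB pF pB) [IsProper pF] [IsReduced F] [ConnectedSpace F]
    [ConnectedSpace B] (D : FEt.Cat P) [ConnectedSpace D.left] (Ω : Type u) [Field Ω] [IsAlgClosed Ω]
    (s : Spec (CommRingCat.of Ω) ⟶ B) (σ : pullback fB s ⟶ D.left) (hσ : σ ≫ D.hom = pullback.fst fB s) :
    (FEt.restrict fB).essImage D := by
  haveI := isProper_snd h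
  haveI := flat_snd h
  haveI := lfp_snd h
  haveI := geometricallyConnected_snd h
  haveI := geometricallyReduced_snd h
  exact SteinEtLib.essImage_of_section fB (fun Ω _ _ s =>
    ⟨GeometricallyConnected.geometrically_connectedSpace (f := fB) _ _ _ (IsPullback.of_hasPullback fB s),
      GeometricallyReduced.geometrically_isReduced (f := fB) _ _ _ (IsPullback.of_hasPullback fB s)⟩) D Ω s σ hσ

end Product

section Covers

variable {X : Scheme.{u}}

/-- The connected component of a point as an open. -/
def compOpen (X : Scheme.{u}) [IsLocallyNoetherian X] (x : X) : X.Opens :=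
  ⟨connectedComponent x, ArtGrpLib.isOpen_connectedComponent x⟩

theorem mem_compOpen (X : Scheme.{u}) [IsLocallyNoetherian X] (x : X) : x ∈ compOpen X x :=
  mem_connectedComponent

theorem isClosed_compOpen (X : Scheme.{u}) [IsLocallyNoetherian X] (x : X) : IsClosed (compOpen X x : Set X) :=
  isClosed_connectedComponent

instance connectedSpace_compOpen (X : Scheme.{u}) [IsLocallyNoetherian X] (x : X) :
    ConnectedSpace (compOpen X x).toScheme :=
  isConnected_iff_connectedSpace.1 isConnected_connectedComponent

theorem isLocallyNoetherian_left [IsLocallyNoetherian X] (Z : FEt.Cat X) : IsLocallyNoetherian Z.left :=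
  @LocallyOfFiniteType.isLocallyNoetherian Z.left X Z.hom (inferInstance : LocallyOfFiniteType Z.hom) ‹_›

/-- The connected part of a cover through a point. -/
def compPart (Z : FEt.Cat X) [IsLocallyNoetherian Z.left] (z : Z.left) : FEt.Cat X :=
  clopenPart Z (compOpen Z.left z) (isClosed_compOpen _ _)

instance (Z : FEt.Cat X) [IsLocallyNoetherian Z.left] (z : Z.left) : ConnectedSpace (compPart Z z).left :=
  connectedSpace_compOpen Z.left z

theorem surjective_hom_of_connected [ConnectedSpace X] (Z : FEt.Cat X) [Nonempty Z.left] : Surjective Z.hom :=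
  let z : Z.left ⟶ X := Z.hom
  haveI : IsFinite z := Z.prop.1
  haveI : Etale z := Z.prop.2
  show Surjective z from
  ⟨Set.range_eq_univ.1 (IsClopen.eq_univ ⟨z.isClosedMap.isClosed_range, z.isOpenMap.isOpen_range⟩
    (Set.range_nonempty _))⟩

theorem exists_lift_geom (Z : FEt.Cat X) [Surjective Z.hom] {K : Type u} [Field K] [IsAlgClosed K]
    (ξ : Spec (CommRingCat.of K) ⟶ X) : ∃ s : Spec (CommRingCat.of K) ⟶ Z.left, s ≫ Z.hom = ξ := by
  haveI : Surjective (toOne Z).left := ‹Surjective Z.hom›
  obtain ⟨a, -⟩ := pmap_surjective (ξ := ξ) (toOne Z) (pt1 ξ)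
  exact ⟨a.left, fib_w a⟩

/-- The range of a morphism from a connected space lies in a connected component. -/
theorem range_subset_compOpen {T Z : Scheme.{u}} [ConnectedSpace T] [IsLocallyNoetherian Z] (g : T ⟶ Z) (t : T)
    {z : Z} (hz : g t ∈ connectedComponent z) : Set.range g ⊆ (compOpen Z z : Set Z) := by
  show Set.range g ⊆ connectedComponent z
  rw [connectedComponent_eq hz]
  exact (isConnected_range g.continuous).subset_connectedComponent ⟨t, rfl⟩

/-- Sections of covers extend along thickenings. -/
theorem extend_section {T : Scheme.{u}} (i : T ⟶ X) [IsClosedImmersion i] [Surjective i] (Z : FEt.Cat X)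
    (s : T ⟶ Z.left) (hs : s ≫ Z.hom = i) : ∃ t : X ⟶ Z.left, t ≫ Z.hom = 𝟙 X ∧ i ≫ t = s := by
  haveI := S0238.result i
  have hiso : IsIso (toOne ((FEt.restrict i).obj (one X))) := by
    haveI : IsIso (toOne ((FEt.restrict i).obj (one X))).left :=
      inferInstanceAs (IsIso (pullback.snd (𝟙 X) i))
    exact isIso_of_isIso_left _
  let φ := (FEt.restrict i).preimage (toOne ((FEt.restrict i).obj (one X)) ≫ sectionEquiv i Z ⟨s, hs⟩)
  refine ⟨φ.left, Over.w φ, ?_⟩
  have h1 := congrArg (fun a : (FEt.restrict i).obj (one X) ⟶ (FEt.restrict i).obj Z => a.left ≫ pullback.fst Z.hom i)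
    ((FEt.restrict i).map_preimage (toOne ((FEt.restrict i).obj (one X)) ≫ sectionEquiv i Z ⟨s, hs⟩))
  have h2 : ((FEt.restrict i).map φ).left ≫ pullback.fst Z.hom i = pullback.fst (𝟙 X) i ≫ φ.left :=
    pullback.lift_fst _ _ _
  have h3 : (toOne ((FEt.restrict i).obj (one X)) ≫ sectionEquiv i Z ⟨s, hs⟩).left ≫ pullback.fst Z.hom i =
      pullback.snd (𝟙 X) i ≫ s := by
    show (pullback.snd (𝟙 X) i ≫ pullback.lift s (𝟙 T) _) ≫ pullback.fst Z.hom i = _
    rw [Category.assoc, pullback.lift_fst]
  have h4 : pullback.fst (𝟙 X) i = pullback.snd (𝟙 X) i ≫ i := by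
    rw [← pullback.condition, Category.comp_id]
  rw [h3] at h1
  change ((FEt.restrict i).map φ).left ≫ pullback.fst Z.hom i = _ at h1
  rw [h2, h4, Category.assoc] at h1
  exact (cancel_epi (pullback.snd (𝟙 X) i)).1 h1

/-- The reduced structure on a connected component. -/
theorem exists_reduced_component (X : Scheme.{u}) [IsLocallyNoetherian X] (x : X) :
    ∃ (F : Scheme.{u}) (j : F ⟶ (compOpen X x).toScheme), IsClosedImmersion j ∧ Surjective j ∧
      IsReduced F ∧ ConnectedSpace F := by
  let C : Closeds ↥(compOpen X x).toScheme := ⊤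
  let I := Scheme.IdealSheafData.vanishingIdeal C
  haveI : Surjective I.subschemeι := ⟨Set.range_eq_univ.1 (by
    rw [Scheme.IdealSheafData.range_subschemeι, Scheme.IdealSheafData.coe_support_vanishingIdeal]
    rfl)⟩
  refine ⟨I.subscheme, I.subschemeι, inferInstance, inferInstance, DVRCrit.isReduced_vanishingIdeal C, ?_⟩
  let e : ↥I.subscheme ≃ₜ ↥(compOpen X x).toScheme :=
    I.subschemeι.isClosedEmbedding.isEmbedding.toHomeomorphOfSurjective I.subschemeι.surjective
  exact e.symm.surjective.connectedSpace e.symm.continuous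

/-- A field valued point factors through a thickening. -/
theorem exists_lift_point {T : Scheme.{u}} (i : T ⟶ X) [IsClosedImmersion i] [Surjective i] {K : Type u} [Field K]
    (y : Spec (CommRingCat.of K) ⟶ X) : ∃ y₀ : Spec (CommRingCat.of K) ⟶ T, y₀ ≫ i = y := by
  haveI : IsClosedImmersion (pullback.fst y i) := MorphismProperty.pullback_fst _ _ ‹_›
  haveI : Surjective (pullback.fst y i) := MorphismProperty.pullback_fst _ _ ‹_›
  haveI : IsIso (pullback.fst y i) := isIso_of_isClosedImmersion_of_surjective _
  exact ⟨inv (pullback.fst y i) ≫ pullback.snd y i, by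
    rw [Category.assoc, ← pullback.condition, IsIso.inv_hom_id_assoc]⟩

end Covers

end Groth.Agent.KunnethPi1Lib
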