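import Groth.Agent.KunnethPi1Lib.Basic

/-!
# Covers of a product with a proper connected factor: descent after a cover of the factor
-/

set_option autoImplicit false
set_option backward.isDefEq.respectTransparency false
set_option linter.style.haveILetI false
set_option linter.unusedSectionVars false
set_option maxHeartbeats 1000000

universe u

open CategoryTheory CategoryTheory.Limits AlgebraicGeometry TopologicalSpace MorphismProperty

noncomputable section

namespace Groth.Agent.KunnethPi1Lib

open Groth.Agent.FEtLib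

variable {k : Type u} [Field k] [IsAlgClosed k] {F B P : Scheme.{u}} {pF : F ⟶ Spec (CommRingCat.of k)}
  {pB : B ⟶ Spec (CommRingCat.of k)} {fF : P ⟶ F} {fB : P ⟶ B}

theorem isLocallyNoetherian_product (h : IsPullback fF fB pF pB) [IsProper pF] [IsLocallyNoetherian B] :
    IsLocallyNoetherian P := by
  haveI := isProper_snd h
  exact LocallyOfFiniteType.isLocallyNoetherian fB

/-- The product with a cover of the first factor. -/
theorem isPullback_cover (h : IsPullback fF fB pF pB) {F' : Scheme.{u}} (π : F' ⟶ F) :
    IsPullback (pullback.snd fF π) (pullback.fst fF π ≫ fB) (π ≫ pF) pB :=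
  ((IsPullback.of_hasPullback fF π).paste_horiz h.flip).flip

theorem isProper_cover [IsProper pF] (F' : FEt.Cat F) : IsProper ((F'.hom : F'.left ⟶ F) ≫ pF) := by
  let π : F'.left ⟶ F := F'.hom
  haveI : IsFinite π := F'.prop.1
  show IsProper (π ≫ pF)
  infer_instance

theorem isReduced_cover [IsReduced F] (F' : FEt.Cat F) : IsReduced F'.left := by
  let π : F'.left ⟶ F := F'.hom
  haveI : Etale π := F'.prop.2
  exact ASp.isReduced_of_etale π

/-- After a connected cover of the proper factor, every connected part of a cover of the product comes from a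
cover of the other factor. -/
theorem exists_trivializing (h : IsPullback fF fB pF pB) [IsProper pF] [IsReduced F] [ConnectedSpace F]
    [ConnectedSpace B] [IsLocallyNoetherian B] (C : FEt.Cat P) [Nonempty C.left] :
    ∃ F' : FEt.Cat F, ConnectedSpace F'.left ∧
      ∀ [IsLocallyNoetherian ((FEt.restrict (pullback.fst fF F'.hom)).obj C).left]
        (z : ((FEt.restrict (pullback.fst fF F'.hom)).obj C).left),
        (FEt.restrict (pullback.fst fF F'.hom ≫ fB)).essImage
          (compPart ((FEt.restrict (pullback.fst fF F'.hom)).obj C) z) := by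
  haveI : CompactSpace F := QuasiCompact.compactSpace_of_compactSpace pF
  haveI : IsLocallyNoetherian F := LocallyOfFiniteType.isLocallyNoetherian pF
  haveI := connectedSpace_product h
  -- a geometric point of the base
  obtain ⟨K, iK, iKc, b, -⟩ := QuotLib.exists_geom_point (Classical.arbitrary ↥B)
  letI : Algebra k K := (Spec.preimage (b ≫ pB)).hom.toAlgebra
  let a := Spec.map (CommRingCat.ofHom (algebraMap k K))
  have ha : a = b ≫ pB := Spec.map_preimage _
  let r := pullback.fst pF a
  let jK : pullback pF a ⟶ P := h.lift r (pullback.snd pF a ≫ b) (by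
    rw [Category.assoc, ← ha]; exact pullback.condition)
  have hjF : jK ≫ fF = r := h.lift_fst _ _ _
  have hjB : jK ≫ fB = pullback.snd pF a ≫ b := h.lift_snd _ _ _
  haveI := PropPi1.isEquivalence_algClosed_baseChange k K pF
  haveI : (FEt.restrict r).EssSurj := Functor.IsEquivalence.essSurj
  let C0 : FEt.Cat F := (FEt.restrict r).objPreimage ((FEt.restrict jK).obj C)
  let e : (FEt.restrict r).obj C0 ≅ (FEt.restrict jK).obj C := (FEt.restrict r).objObjPreimageIso _
  -- a connected cover of `F` enumerating the sheets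
  obtain ⟨L₀, _, _, η, -⟩ := QuotLib.exists_geom_point (Classical.arbitrary ↥F)
  obtain ⟨n, hn⟩ := exists_stratum C0 (base η)
  have hS : ∀ x, x ∈ stratum C0 n := fun x =>
    (IsClopen.eq_univ ⟨isClosed_stratum C0 n, (stratum C0 n).2⟩ ⟨_, hn⟩).ge (Set.mem_univ x)
  obtain ⟨ep⟩ := exists_fin_equiv hn
  obtain ⟨p, -⟩ := exists_enum hn ep
  haveI := isLocallyNoetherian_left (enum C0 n)
  let F' : FEt.Cat F := compPart (enum C0 n) (center p)
  let ι' : F' ⟶ enum C0 n := clopenPartι _ _ _
  refine ⟨F', inferInstanceAs (ConnectedSpace (compPart (enum C0 n) (center p)).left), fun {_} z => ?_⟩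
  let π : F'.left ⟶ F := F'.hom
  haveI : ConnectedSpace F'.left := inferInstanceAs (ConnectedSpace (compPart (enum C0 n) (center p)).left)
  haveI : IsProper (π ≫ pF) := isProper_cover F'
  haveI : IsReduced F'.left := isReduced_cover F'
  let m := pullback.fst fF π
  have h' : IsPullback (pullback.snd fF π) (m ≫ fB) (π ≫ pF) pB := isPullback_cover h π
  haveI := connectedSpace_product h'
  let C' := (FEt.restrict m).obj C
  haveI : IsLocallyNoetherian C'.left := ‹_›
  let D := compPart C' z
  let ι : D ⟶ C' := clopenPartι _ _ _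
  haveI : Nonempty D.left := ⟨⟨z, mem_compOpen _ _⟩⟩
  haveI : ConnectedSpace D.left := inferInstanceAs (ConnectedSpace (compPart C' z).left)
  haveI : Surjective D.hom := surjective_hom_of_connected D
  -- the geometric fibre
  let Q := pullback (m ≫ fB) b
  haveI := geometricallyConnected_snd h'
  haveI : ConnectedSpace ↥Q :=
    GeometricallyConnected.geometrically_connectedSpace (f := m ≫ fB) _ _ _ (IsPullback.of_hasPullback (m ≫ fB) b)
  let qP : Q ⟶ pullback fF π := pullback.fst (m ≫ fB) b
  let q : Q ⟶ pullback pF a := pullback.lift (qP ≫ m ≫ fF) (pullback.snd (m ≫ fB) b) (by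
    rw [Category.assoc, Category.assoc, h.w, ha]
    simp only [qP]
    rw [← reassoc_of% (pullback.condition (f := m ≫ fB) (g := b))])
  have hqr : q ≫ r = qP ≫ m ≫ fF := pullback.lift_fst _ _ _
  have hqj : q ≫ jK = qP ≫ m := by
    refine h.hom_ext ?_ ?_
    · rw [Category.assoc, hjF, hqr, Category.assoc]
    · rw [Category.assoc, hjB, pullback.lift_snd_assoc, Category.assoc]
      exact pullback.condition.symm
  obtain ⟨L, _, _, ω, -⟩ := QuotLib.exists_geom_point (Classical.arbitrary ↥Q)
  obtain ⟨d, hd⟩ := exists_lift_geom D (ω ≫ qP)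
  let c : Fib (ω ≫ q) ((FEt.restrict jK).obj C) :=
    fibMk (pullback.lift (d ≫ ι.left ≫ pullback.fst C.hom m) (ω ≫ q) (by
      rw [Category.assoc ω, hqj, ← Category.assoc ω, ← hd]
      simp only [Category.assoc]
      congr 1
      rw [pullback.condition, ← Category.assoc]
      exact congrArg (· ≫ m) (Over.w ι))) (pullback.lift_snd _ _ _)
  let c0 : Fib ((ω ≫ q) ≫ r) C0 := bcEquiv r (pmap e.inv c)
  let p' : Fib ((ω ≫ q) ≫ r) (enum C0 n) := fibMk ((ω ≫ qP ≫ pullback.snd fF π) ≫ ι'.left) (by
    have h1 : ι'.left ≫ (enum C0 n).hom = π := Over.w ι'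
    rw [Category.assoc, h1, Category.assoc ω q, hqr]
    simp only [Category.assoc, π, m]
    rw [pullback.condition])
  obtain ⟨i, hi⟩ := (enum_bijective p').2.2 c0
  let σ0 : Q ⟶ ((FEt.restrict r).obj C0).left :=
    pullback.lift ((qP ≫ pullback.snd fF π ≫ ι'.left) ≫ (ev C0 n i).left) q (by
      have h1 : (ev C0 n i).left ≫ C0.hom = (enum C0 n).hom := Over.w (ev C0 n i)
      have h2 : ι'.left ≫ (enum C0 n).hom = π := Over.w ι'
      simp only [Category.assoc, h1, h2]
      rw [hqr, pullback.condition])
  let σC : Q ⟶ C.left := σ0 ≫ e.hom.left ≫ pullback.fst C.hom jK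
  have hσC : σC ≫ C.hom = qP ≫ m := by
    have h1 : e.hom.left ≫ pullback.snd C.hom jK = pullback.snd C0.hom r := Over.w e.hom
    simp only [σC, Category.assoc]
    rw [pullback.condition, reassoc_of% h1, ← hqj]
    exact congrArg (· ≫ jK) (pullback.lift_snd _ _ _)
  let σ' : Q ⟶ C'.left := pullback.lift σC qP hσC
  have hωσ : ω ≫ σ' = d ≫ ι.left := by
    have h2 : ω ≫ σ0 = (pmap e.inv c).left := by
      have hc0 : pmap (ev C0 n i) p' = bcEquiv r (pmap e.inv c) := hi
      refine pullback.hom_ext ?_ ?_
      · rw [Category.assoc, pullback.lift_fst]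
        refine Eq.trans ?_ (congrArg (fun t : Fib ((ω ≫ q) ≫ r) C0 => t.left) hc0)
        show _ = ((ω ≫ qP ≫ pullback.snd fF π) ≫ ι'.left) ≫ (ev C0 n i).left
        simp only [Category.assoc]
      · rw [Category.assoc, pullback.lift_snd]
        exact (fib_w (pmap e.inv c)).symm
    have h3 : (pmap e.inv c).left ≫ e.hom.left = c.left := by
      have := congrArg (fun t : Fib (ω ≫ q) ((FEt.restrict jK).obj C) => t.left)
        ((pmap_comp e.inv e.hom c).symm.trans (by rw [e.inv_hom_id, pmap_id]))
      exact this
    refine pullback.hom_ext ?_ ?_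
    · rw [Category.assoc, pullback.lift_fst, Category.assoc]
      simp only [σC]
      rw [reassoc_of% h2, reassoc_of% h3]
      exact pullback.lift_fst _ _ _
    · rw [Category.assoc, pullback.lift_snd, Category.assoc]
      have h4 : ι.left ≫ pullback.snd C.hom m = D.hom := Over.w ι
      rw [h4, hd]
  have hrange : Set.range σ' ⊆ Set.range (compOpen C'.left z).ι := by
    rw [Scheme.Opens.range_ι]
    refine range_subset_compOpen σ' (ω (IsLocalRing.closedPoint L)) ?_
    rw [← Scheme.Hom.comp_apply, hωσ, Scheme.Hom.comp_apply]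
    exact Subtype.mem (d (IsLocalRing.closedPoint L) : ↥(compOpen C'.left z).toScheme)
  let σ : Q ⟶ D.left := IsOpenImmersion.lift (compOpen C'.left z).ι σ' hrange
  refine essImage_of_fibre_section h' D K b σ ?_
  have h5 : σ ≫ ι.left = σ' := IsOpenImmersion.lift_fac _ _ _
  have h4 : ι.left ≫ pullback.snd C.hom m = D.hom := Over.w ι
  rw [← h4, reassoc_of% h5]
  exact pullback.lift_snd _ _ _

end Groth.Agent.KunnethPi1Lib
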