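import Groth.Agent.KunnethPi1Lib.Main
import Groth.Agent.FEtLib.Glue

/-!
# Moving sections of covers of a product between rational points of a factor
-/

set_option autoImplicit false
set_option backward.isDefEq.respectTransparency false
set_option linter.style.haveILetI false
set_option linter.unusedSectionVars false
set_option maxHeartbeats 1000000

universe u

open CategoryTheory CategoryTheory.Limits AlgebraicGeometry TopologicalSpace MorphismProperty

noncomputable section

namespace Groth.Agent.KunnethPi1Lib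

open Groth.Agent.FEtLib

section Product

variable {k : Type u} [Field k] [IsAlgClosed k] {F B P : Scheme.{u}} {pF : F ⟶ Spec (CommRingCat.of k)}
  {pB : B ⟶ Spec (CommRingCat.of k)} {fF : P ⟶ F} {fB : P ⟶ B}

theorem transport_fst (h : IsPullback fF fB pF pB) [IsProper pF] [IsReduced F] [ConnectedSpace F]
    [ConnectedSpace B] [IsLocallyNoetherian B] (C : FEt.Cat P) [IsLocallyNoetherian C.left]
    (y y' : Spec (CommRingCat.of k) ⟶ B) (hy : y ≫ pB = 𝟙 _)
    (j j' : F ⟶ P) (hjF : j ≫ fF = 𝟙 F) (hjB : j ≫ fB = pF ≫ y) (hjF' : j' ≫ fF = 𝟙 F) (hjB' : j' ≫ fB = pF ≫ y')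
    (s : F ⟶ C.left) (hs : s ≫ C.hom = j) (x : F) :
    ∃ s' : F ⟶ C.left, s' ≫ C.hom = j' ∧ ∀ x', s' x' ∈ connectedComponent (s x) := by
  let D := compPart C (s x)
  let ι : D ⟶ C := clopenPartι _ _ _
  haveI : ConnectedSpace D.left := inferInstanceAs (ConnectedSpace (compPart C (s x)).left)
  have hrange : Set.range s ⊆ Set.range (compOpen C.left (s x)).ι := by
    rw [Scheme.Opens.range_ι]
    exact range_subset_compOpen s x mem_connectedComponent
  let sD : F ⟶ D.left := IsOpenImmersion.lift (compOpen C.left (s x)).ι s hrange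
  have hsD : sD ≫ D.hom = j := by
    have h1 : sD ≫ ι.left = s := IsOpenImmersion.lift_fac _ _ _
    have h2 : ι.left ≫ C.hom = D.hom := MorphismProperty.Over.w ι
    rw [← h2, reassoc_of% h1, hs]
  obtain ⟨V, ⟨e⟩⟩ := essImage_of_fibre_section h D k y (pullback.fst fB y ≫ fF ≫ sD) (by
    rw [Category.assoc, Category.assoc, hsD]
    refine h.hom_ext ?_ ?_
    · rw [Category.assoc, Category.assoc, hjF, Category.comp_id]
    · rw [Category.assoc, Category.assoc, hjB, h.w_assoc, pullback.condition_assoc]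
      rw [reassoc_of% hy, ← pullback.condition])
  haveI : Nonempty V.left := ⟨pullback.fst V.hom fB (e.inv.left (Classical.arbitrary D.left))⟩
  haveI := surjective_hom_of_connected V
  obtain ⟨q, hq⟩ := exists_lift_geom V y'
  let t : F ⟶ pullback V.hom fB := pullback.lift (pF ≫ q) j' (by rw [Category.assoc, hq, hjB'])
  refine ⟨t ≫ e.hom.left ≫ ι.left, ?_, fun x' => Subtype.mem ((t ≫ e.hom.left) x' : ↥(compOpen C.left (s x)).toScheme)⟩
  have h2 : ι.left ≫ C.hom = D.hom := MorphismProperty.Over.w ι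
  have h3 : e.hom.left ≫ D.hom = pullback.snd V.hom fB := MorphismProperty.Over.w e.hom
  rw [Category.assoc, Category.assoc, h2, h3]
  exact pullback.lift_snd _ _ _

theorem transport_snd (h : IsPullback fF fB pF pB) [IsProper pF] [IsReduced F] [ConnectedSpace F]
    [ConnectedSpace B] [IsLocallyNoetherian B] (C : FEt.Cat P) [IsLocallyNoetherian C.left]
    (y y' : Spec (CommRingCat.of k) ⟶ F)
    (j j' : B ⟶ P) (hjF : j ≫ fF = pB ≫ y) (hjB : j ≫ fB = 𝟙 B) (hjF' : j' ≫ fF = pB ≫ y') (hjB' : j' ≫ fB = 𝟙 B)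
    (s : B ⟶ C.left) (hs : s ≫ C.hom = j) (x : B) :
    ∃ s' : B ⟶ C.left, s' ≫ C.hom = j' ∧ ∀ x', s' x' ∈ connectedComponent (s x) := by
  haveI : Nonempty C.left := ⟨s x⟩
  obtain ⟨F', hF', hD⟩ := exists_trivializing h C
  let π : F'.left ⟶ F := F'.hom
  haveI : ConnectedSpace F'.left := hF'
  haveI : IsProper (π ≫ pF) := isProper_cover F'
  let m := pullback.fst fF π
  let C' := (FEt.restrict m).obj C
  haveI := isLocallyNoetherian_product (isPullback_cover h π)
  haveI : IsLocallyNoetherian C'.left := isLocallyNoetherian_left C'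
  haveI := surjective_hom_of_connected F'
  obtain ⟨y₁, hy₁⟩ := exists_lift_geom F' y
  obtain ⟨y₁', hy₁'⟩ := exists_lift_geom F' y'
  let j₁ : B ⟶ pullback fF π := pullback.lift j (pB ≫ y₁) (by rw [hjF, Category.assoc, hy₁])
  let j₁' : B ⟶ pullback fF π := pullback.lift j' (pB ≫ y₁') (by rw [hjF', Category.assoc, hy₁'])
  let s₁ : B ⟶ C'.left := pullback.lift s j₁ (hs.trans (pullback.lift_fst _ _ _).symm)
  obtain ⟨V, ⟨e⟩⟩ := hD (z := s₁ x)
  let D := compPart C' (s₁ x)
  let ι : D ⟶ C' := clopenPartι _ _ _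
  have hrange : Set.range s₁ ⊆ Set.range (compOpen C'.left (s₁ x)).ι := by
    rw [Scheme.Opens.range_ι]
    exact range_subset_compOpen s₁ x mem_connectedComponent
  let sD : B ⟶ D.left := IsOpenImmersion.lift (compOpen C'.left (s₁ x)).ι s₁ hrange
  have h1 : sD ≫ ι.left = s₁ := IsOpenImmersion.lift_fac _ _ _
  have h2 : ι.left ≫ pullback.snd C.hom m = D.hom := MorphismProperty.Over.w ι
  have h3 : e.hom.left ≫ D.hom = pullback.snd V.hom (m ≫ fB) := MorphismProperty.Over.w e.hom
  have h4 : e.inv.left ≫ pullback.snd V.hom (m ≫ fB) = D.hom := MorphismProperty.Over.w e.inv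
  let v : B ⟶ V.left := sD ≫ e.inv.left ≫ pullback.fst V.hom (m ≫ fB)
  have hv : v ≫ V.hom = 𝟙 B := by
    simp only [v, Category.assoc]
    rw [pullback.condition, reassoc_of% h4, ← h2, Category.assoc, reassoc_of% h1]
    simp [s₁, j₁, m, hjB]
  let t : B ⟶ pullback V.hom (m ≫ fB) := pullback.lift v j₁' (by
    rw [hv]; simp [j₁', m, hjB'])
  refine ⟨t ≫ e.hom.left ≫ ι.left ≫ pullback.fst C.hom m, ?_, fun x' => ?_⟩
  · simp only [Category.assoc]
    rw [pullback.condition, reassoc_of% h2, reassoc_of% h3]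
    simp [t, j₁', m]
  · let g : C'.left ⟶ C.left := pullback.fst C.hom m
    have hg : g (s₁ x) = s x := by
      rw [← Scheme.Hom.comp_apply]
      exact congrArg (fun a : B ⟶ C.left => a x) (pullback.lift_fst _ _ _)
    rw [← hg]
    exact g.continuous.image_connectedComponent_subset _
      ⟨_, Subtype.mem ((t ≫ e.hom.left) x' : ↥(compOpen C'.left (s₁ x)).toScheme), rfl⟩

end Product

theorem transport {k : Type u} [Field k] [IsAlgClosed k] {X Y : Scheme.{u}}
    (pX : X ⟶ Spec (CommRingCat.of k)) (pY : Y ⟶ Spec (CommRingCat.of k))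
    [IsLocallyNoetherian X] [IsLocallyNoetherian Y] [ConnectedSpace Y] (hprop : IsProper pX ∨ IsProper pY)
    (W : FEt.Cat (pullback pX pY)) [IsLocallyNoetherian W.left]
    (y y' : Spec (CommRingCat.of k) ⟶ Y) (hy : y ≫ pY = 𝟙 _)
    (j j' : X ⟶ pullback pX pY) (hjX : j ≫ pullback.fst pX pY = 𝟙 X) (hjY : j ≫ pullback.snd pX pY = pX ≫ y)
    (hjX' : j' ≫ pullback.fst pX pY = 𝟙 X) (hjY' : j' ≫ pullback.snd pX pY = pX ≫ y')
    (s : X ⟶ W.left) (hs : s ≫ W.hom = j) (x : X) :
    ∃ s' : (compOpen X x).toScheme ⟶ W.left, s' ≫ W.hom = (compOpen X x).ι ≫ j' ∧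
      ∀ x', s' x' ∈ connectedComponent (s x) := by
  let c := (compOpen X x).ι
  let x₀ : (compOpen X x).toScheme := (⟨x, mem_compOpen X x⟩ : (compOpen X x : Set X))
  have hx₀ : c x₀ = x := rfl
  haveI : IsClosedImmersion c :=
    IsClosedImmersion.of_isPreimmersion _ (by rw [Scheme.Opens.range_ι]; exact isClosed_compOpen X x)
  rcases hprop with hp | hp
  · obtain ⟨F, jF, hci, hsu, hred, hconn⟩ := exists_reduced_component X x
    let iF : F ⟶ X := jF ≫ c
    let pF := iF ≫ pX
    let i := pullback.fst (pullback.fst pX pY) iF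
    have h : IsPullback (pullback.snd (pullback.fst pX pY) iF) (i ≫ pullback.snd pX pY) pF pY :=
      isPullback_cover (IsPullback.of_hasPullback pX pY) iF
    let C := (FEt.restrict i).obj W
    haveI : IsLocallyNoetherian (pullback (pullback.fst pX pY) iF) := isLocallyNoetherian_product h
    haveI : IsLocallyNoetherian C.left := isLocallyNoetherian_left C
    let jP : F ⟶ pullback (pullback.fst pX pY) iF :=
      pullback.lift (iF ≫ j) (𝟙 F) (by rw [Category.assoc, hjX, Category.comp_id, Category.id_comp])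
    let jP' : F ⟶ pullback (pullback.fst pX pY) iF :=
      pullback.lift (iF ≫ j') (𝟙 F) (by rw [Category.assoc, hjX', Category.comp_id, Category.id_comp])
    let sF : F ⟶ C.left := pullback.lift (iF ≫ s) jP (by
      rw [Category.assoc, hs, pullback.lift_fst])
    obtain ⟨f₀, hf₀⟩ := jF.surjective x₀
    obtain ⟨s', hs', hcomp⟩ := transport_fst h C y y' hy jP jP' (pullback.lift_snd _ _ _)
      (by simp [jP, i, pF, hjY])
      (pullback.lift_snd _ _ _) (by simp [jP', i, pF, hjY'])
      sF (pullback.lift_snd _ _ _) f₀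
    let g : C.left ⟶ W.left := pullback.fst W.hom i
    let Z := (FEt.restrict (c ≫ j')).obj W
    have hsZ : (s' ≫ g) ≫ W.hom = jF ≫ c ≫ j' := by
      have h1 : s' ≫ pullback.snd W.hom i = jP' := hs'
      simp only [g, Category.assoc]
      rw [pullback.condition, reassoc_of% h1]
      simp [jP', i, iF]
    obtain ⟨t, ht, htj⟩ := extend_section jF Z (pullback.lift (s' ≫ g) jF hsZ) (pullback.lift_snd _ _ _)
    refine ⟨t ≫ pullback.fst W.hom (c ≫ j'), ?_, fun x' => ?_⟩
    · rw [Category.assoc, pullback.condition]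
      exact (Category.assoc _ _ _).symm.trans ((congrArg (· ≫ c ≫ j') ht).trans (Category.id_comp _))
    · obtain ⟨f, rfl⟩ := jF.surjective x'
      have hg : g (sF f₀) = s x := by
        rw [← Scheme.Hom.comp_apply, show sF ≫ g = iF ≫ s from pullback.lift_fst _ _ _]
        simp only [iF, Scheme.Hom.comp_apply, hf₀, hx₀]
      have ht' : (t ≫ pullback.fst W.hom (c ≫ j')) (jF f) = g (s' f) := by
        rw [← Scheme.Hom.comp_apply, ← Scheme.Hom.comp_apply, reassoc_of% htj, pullback.lift_fst]; rfl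
      refine (congrArg (fun z => z ∈ connectedComponent (s x)) ht').mpr ?_
      rw [← hg]
      exact g.continuous.image_connectedComponent_subset _ ⟨_, hcomp f, rfl⟩
  · obtain ⟨F, jF, hci, hsu, hred, hconn⟩ := exists_reduced_component Y (Classical.arbitrary ↥Y)
    haveI : IsClosedImmersion (compOpen Y (Classical.arbitrary ↥Y)).ι :=
      IsClosedImmersion.of_isPreimmersion _ (by rw [Scheme.Opens.range_ι]; exact isClosed_compOpen _ _)
    haveI : Surjective (compOpen Y (Classical.arbitrary ↥Y)).ι := ⟨Set.range_eq_univ.1 (by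
      rw [Scheme.Opens.range_ι]
      exact PreconnectedSpace.connectedComponent_eq_univ _)⟩
    let iF : F ⟶ Y := jF ≫ (compOpen Y (Classical.arbitrary ↥Y)).ι
    haveI : IsClosedImmersion iF := inferInstanceAs (IsClosedImmersion (jF ≫ _))
    haveI : Surjective iF := inferInstanceAs (Surjective (jF ≫ _))
    obtain ⟨y₀, hy₀⟩ := exists_lift_point iF y
    obtain ⟨y₀', hy₀'⟩ := exists_lift_point iF y'
    let pF := iF ≫ pY
    let i₁ := pullback.fst (pullback.snd pX pY) iF
    have h₁ : IsPullback (pullback.snd (pullback.snd pX pY) iF) (i₁ ≫ pullback.fst pX pY) pF pX :=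
      isPullback_cover (IsPullback.of_hasPullback pX pY).flip iF
    let i₂ := pullback.fst (i₁ ≫ pullback.fst pX pY) c
    have h : IsPullback (i₂ ≫ pullback.snd (pullback.snd pX pY) iF) (pullback.snd (i₁ ≫ pullback.fst pX pY) c) pF
        (c ≫ pX) := (isPullback_cover h₁.flip c).flip
    let i := i₂ ≫ i₁
    let C := (FEt.restrict i).obj W
    haveI : IsProper pF := inferInstanceAs (IsProper (iF ≫ pY))
    haveI : IsLocallyNoetherian (compOpen X x).toScheme := LocallyOfFiniteType.isLocallyNoetherian c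
    haveI := isLocallyNoetherian_product h
    haveI : IsLocallyNoetherian C.left := isLocallyNoetherian_left C
    let mk (jj : X ⟶ pullback pX pY) (yy : Spec (CommRingCat.of k) ⟶ F) (h1 : jj ≫ pullback.fst pX pY = 𝟙 X)
        (h2 : jj ≫ pullback.snd pX pY = pX ≫ yy ≫ iF) :
        (compOpen X x).toScheme ⟶ pullback (i₁ ≫ pullback.fst pX pY) c :=
      pullback.lift (pullback.lift (c ≫ jj) (c ≫ pX ≫ yy) (by rw [Category.assoc, h2]; simp))
        (𝟙 _) (by simp [i₁, h1])
    let jP := mk j y₀ hjX (by rw [hjY, hy₀])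
    let jP' := mk j' y₀' hjX' (by rw [hjY', hy₀'])
    let sF : (compOpen X x).toScheme ⟶ C.left := pullback.lift (c ≫ s) jP (by
      rw [Category.assoc, hs]
      simp [jP, mk, i, i₁, i₂])
    obtain ⟨s', hs', hcomp⟩ := transport_snd h C y₀ y₀' jP jP'
      (by simp [jP, mk, i₂]) (pullback.lift_snd _ _ _)
      (by simp [jP', mk, i₂]) (pullback.lift_snd _ _ _)
      sF (pullback.lift_snd _ _ _) x₀
    let g : C.left ⟶ W.left := pullback.fst W.hom i
    refine ⟨s' ≫ g, ?_, fun x' => ?_⟩
    · have h1 : s' ≫ pullback.snd W.hom i = jP' := hs'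
      simp only [g, Category.assoc]
      rw [pullback.condition, reassoc_of% h1]
      simp [jP', mk, i, i₁, i₂, c]
    · have hg : g (sF x₀) = s x := by
        rw [← Scheme.Hom.comp_apply, show sF ≫ g = c ≫ s from pullback.lift_fst _ _ _]
        simp only [Scheme.Hom.comp_apply, hx₀]
      rw [← hg, Scheme.Hom.comp_apply]
      exact g.continuous.image_connectedComponent_subset _ ⟨_, hcomp x', rfl⟩

section Hom

variable {X : Scheme.{u}} {U V W : FEt.Cat X} {e : W ⨯ U ⟶ V}

/-- Evaluation at a geometric point of the cover of morphisms is bijective. -/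
def BijAt (e : W ⨯ U ⟶ V) {K : Type u} [Field K] (w : Spec (CommRingCat.of K) ⟶ W.left) : Prop :=
  Function.Bijective (curryFib e (fibMk w rfl : Fib (w ≫ W.hom) W))

theorem bijAt_iff {K : Type u} [Field K] {ξ : Spec (CommRingCat.of K) ⟶ X} (w : Fib ξ W) :
    BijAt e w.left ↔ Function.Bijective (curryFib e w) := by
  obtain ⟨wl, hwl, rfl⟩ : ∃ (wl : Spec (CommRingCat.of K) ⟶ W.left) (h : wl ≫ W.hom = ξ), fibMk wl h = w :=
    ⟨w.left, fib_w w, fib_ext rfl⟩
  subst hwl
  rfl

/-- The morphism attached to a section of the cover of morphisms, on a geometric fibre. -/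
theorem bijective_sectionHom_iff (e : W ⨯ U ⟶ V) {T : Scheme.{u}} (r : T ⟶ X) (t : one T ⟶ (FEt.restrict r).obj W)
    {K : Type u} [Field K] (ξ : Spec (CommRingCat.of K) ⟶ T) :
    Function.Bijective (pmap (ξ := ξ) (toHom (bcEval r e) t)) ↔
      BijAt e (ξ ≫ (t.left ≫ pullback.fst W.hom r)) := by
  have h1 : ∀ a, bcEquiv r (pmap (ξ := ξ) (toHom (bcEval r e) t) a) =
      curryFib e (bcEquiv r (pmap t (pt1 ξ))) (bcEquiv r a) := fun a => by
    rw [pmap_toHom, bcEquiv_curryFib, fib_one_subsingleton (pmap (toOne _) a) (pt1 ξ)]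
  have h2 : (bcEquiv r (pmap t (pt1 ξ))).left = ξ ≫ (t.left ≫ pullback.fst W.hom r) := Category.assoc _ _ _
  rw [← h2, bijAt_iff, ← (bcEquiv r).bijective.of_comp_iff' (pmap (ξ := ξ) (toHom (bcEval r e) t)),
    show (⇑(bcEquiv r) ∘ pmap (ξ := ξ) (toHom (bcEval r e) t)) =
      curryFib e (bcEquiv r (pmap t (pt1 ξ))) ∘ bcEquiv r from funext h1,
    Function.Bijective.of_comp_iff _ (bcEquiv r).bijective]

/-- Bijectivity of evaluation is constant on connected components. -/
theorem bijAt_of_component [IsLocallyNoetherian W.left] (e : W ⨯ U ⟶ V)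
    {K L : Type u} [Field K] [IsAlgClosed K] [Field L] [IsAlgClosed L] (w : Spec (CommRingCat.of K) ⟶ W.left)
    (w' : Spec (CommRingCat.of L) ⟶ W.left)
    (hmem : w' (IsLocalRing.closedPoint L) ∈ connectedComponent (w (IsLocalRing.closedPoint K)))
    (hw : BijAt e w) : BijAt e w' := by
  let O := compOpen W.left (w (IsLocalRing.closedPoint K))
  haveI : ConnectedSpace ↥O.toScheme := connectedSpace_compOpen _ _
  haveI : ConnectedSpace ↥(Spec (CommRingCat.of K)) := inferInstanceAs (ConnectedSpace (PrimeSpectrum K))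
  haveI : ConnectedSpace ↥(Spec (CommRingCat.of L)) := inferInstanceAs (ConnectedSpace (PrimeSpectrum L))
  let c := O.ι ≫ W.hom
  let tt := sectionEquiv c W ⟨O.ι, rfl⟩
  have htt : tt.left ≫ pullback.fst W.hom c = O.ι := pullback.lift_fst _ _ _
  have h1 : Set.range w ⊆ Set.range O.ι := by
    rw [Scheme.Opens.range_ι]
    exact range_subset_compOpen w (IsLocalRing.closedPoint K) mem_connectedComponent
  have h2 : Set.range w' ⊆ Set.range O.ι := by
    rw [Scheme.Opens.range_ι]
    exact range_subset_compOpen w' (IsLocalRing.closedPoint L) hmem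
  let ξ := IsOpenImmersion.lift O.ι w h1
  let ξ' := IsOpenImmersion.lift O.ι w' h2
  have hξ : ξ ≫ O.ι = w := IsOpenImmersion.lift_fac _ _ _
  have hξ' : ξ' ≫ O.ι = w' := IsOpenImmersion.lift_fac _ _ _
  have hb := (bijective_sectionHom_iff e c tt ξ).2 (by rw [htt, hξ]; exact hw)
  have := (bijective_sectionHom_iff e c tt ξ').1 (pmap_bijective_of_bijective ξ _ hb ξ')
  rwa [htt, hξ'] at this

end Hom

end Groth.Agent.KunnethPi1Lib
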